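import Cfsg.Agent.Lib.LyU.Car
import Cfsg.Agent.Lib.Big.Extra

/-!
# Words, and a matrix model of `2.A₁₁` (helper17)

Letters `1, …, 6` generate `2.A₈`; `7 = s` extends it to `3.McL`; `8 = d` to `3.McL:2`; `9 = t` and `10 = x` lie in
`2.A₁₁`.
-/

set_option autoImplicit false
set_option maxRecDepth 100000

namespace Cfsg.Lib.LyU

open Cfsg.Lib.Calc Cfsg.Lib.Grp Cfsg.Lib.F2 Cfsg.Lib.Big Cfsg.Lib.T2 Cfsg.Lib.McR Subgroup

/-- the central involution -/
def wz : W := .pow (.mul (.l 1) (.l 3)) 2
/-- generator of the centre of `3.McL` -/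
def cw : W := .mul (.mul (.l 7) (.mul (.l 5) (.l 2))) (.mul (.l 7) (.mul (.l 5) (.l 2)))
/-- a three-cycle -/
def wx2 : W := labW labX 2
/-- a three-cycle -/
def wx3 : W := .mul (.mul (.l 2) (.mul (.l 4) (.l 1))) (.mul (.l 6) (.mul (.l 3) (.l 2)))
/-- an involution -/
def wh : W := .mul (.mul (.mul (.l 4) (.l 1)) (.mul (.l 5) (.l 3))) (.mul (.mul (.l 6) (.l 3)) (.mul (.l 5) (.l 4)))
/-- a conjugating element -/
def wk : W := .mul (.mul (.mul (.l 5) (.mul (.l 4) (.l 7))) (.mul (.l 5) (.mul (.l 6) (.l 4)))) (.mul (.mul (.l 7) (.mul (.l 5) (.l 6))) (.mul (.l 1) (.mul (.l 4) (.l 7))))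
/-- an element of order 3 inverted by `z` -/
def w1 : W := .mul (.mul wz wk) (.mul wz (.inv wk))
/-- a conjugate of `w1` -/
def wv : W := .mul (.mul wh w1) wh
/-- an element normalising `⟨w1, w2⟩` -/
def we : W := .mul (.mul (.l 1) (.mul (.l 3) (.l 4))) (.mul (.l 1) (.mul (.l 6) (.l 3)))
/-- a conjugate of `we` -/
def we1 : W := .mul (.mul (.mul (.l 1) (.l 3)) (.mul (.l 2) (.l 4))) (.mul (.mul (.l 6) (.l 1)) (.mul (.l 3) (.mul (.l 5) (.l 8))))
/-- a conjugate of `we` -/
def we2 : W := .mul (.mul (.l 4) (.mul (.l 5) (.l 3))) (.mul (.mul (.l 4) (.l 5)) (.mul (.l 4) (.l 8)))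
/-- a conjugate of `we` -/
def wet : W := .mul (.mul (.mul (.l 1) (.l 3)) (.mul (.l 2) (.l 4))) (.mul (.mul (.l 1) (.l 6)) (.mul (.l 3) (.mul (.l 5) (.l 8))))
/-- a conjugate of `w1` -/
def w2 : W := .mul (.mul we w1) (.inv we)
/-- a five-cycle -/
def w5 : W := .mul (.mul (.mul (.l 1) (.l 3)) (.mul (.l 2) (.l 4))) (.mul (.mul (.l 5) (.l 4)) (.mul (.l 6) (.mul (.l 5) (.l 4))))
/-- a five-cycle -/
def w5t : W := .mul (.mul (.mul (.l 2) (.l 1)) (.mul (.l 4) (.mul (.l 5) (.l 2)))) (.mul (.mul (.l 3) (.mul (.l 6) (.l 4))) (.mul (.l 5) (.mul (.l 2) (.l 4))))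
/-- an element of `2.A₅` -/
def wl : W := .mul (.mul (.l 2) (.mul (.l 5) (.l 1))) (.mul (.l 3) (.mul (.l 4) (.l 6)))
/-- an element of `2.A₅` -/
def wlt : W := .mul (.mul (.l 2) (.mul (.l 1) (.l 3))) (.mul (.l 5) (.mul (.l 6) (.l 4)))
/-- the elements of `⟨w1, w2⟩` -/
def wW (k : ℕ) : W := .mul (.pow w1 (k % 3)) (.pow w2 (k / 3))
/-- conjugates of the letters by `d` -/
def labD : List W := [.l 0, .mul (.mul (.l 1) (.l 6)) (.mul (.l 1) (.mul (.l 2) (.l 6))), .mul (.l 2) (.mul (.l 5) (.l 2)), .mul (.mul (.l 1) (.l 2)) (.mul (.l 1) (.l 2)), .mul (.mul (.l 1) (.l 6)) (.mul (.l 5) (.mul (.l 1) (.l 6))), .l 5, .mul (.mul (.l 3) (.l 4)) (.mul (.l 5) (.mul (.l 3) (.l 4))), .l 7]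
/-- pairs of words exchanged by `t` -/
def prs : List (W × W) := [(wx2, cw), (cw, wx2), (w5, w5t), (we, wet), (wet, we), (wv, w1), (wx3, wx3)]
/-- the relators of `t` -/
def relT : List W := .mul (.l 9) (.l 9) :: .pow (.mul (.l 9) wh) 3 ::
  prs.map fun p => .mul (.mul (.mul (.l 9) p.1) (.l 9)) (.inv p.2)
/-- the letters in terms of three-cycles -/
def labY : List W := labA ++ [.l 0, .mul (.mul (.mul (.inv (.l 8)) (.l 9)) (.mul (.inv (.l 8)) (.inv (.l 3)))) (.mul (.mul (.l 7) (.inv (.l 2))) (.mul (.l 6) (.mul (.inv (.l 2)) (.l 3)))),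
  .mul (.mul (.mul (.mul (.inv (.l 2)) (.l 10)) (.mul (.l 9) (.inv (.l 2)))) (.mul (.mul (.l 8) (.inv (.l 6))) (.mul (.l 7) (.mul (.inv (.l 6)) (.inv (.l 2)))))) (.pow (.mul (.l 2) (.l 3)) 2),
  .mul (.mul (.mul (.inv (.l 9)) (.l 10)) (.mul (.inv (.l 8)) (.l 9))) (.pow (.mul (.l 2) (.l 3)) 2)]

/-- parameters for `16 × 16` matrices over `F₅` -/
def p16 : FP := ⟨nat_lit 10, nat_lit 3, nat_lit 205, nat_lit 10⟩

theorem ok16 : p16.OK 5 16 := .of (by decide +kernel)

/-- the engine -/
noncomputable def eA : Big.Eng := p16.eng (nat_lit 5) (nat_lit 16)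

/-- lifts of three-cycles -/
noncomputable def LA : List ℕ := eA.one :: eA.one :: [nat_lit 0x8000007088001000006011000200004010200040000930040008006000600001000c04c400002001861c0000040030d80602000000004c404000000061c0080000000d8001000000400708000000080601000000010401000000002093000000,
  nat_lit 0x89840000000080308000000020301000000004c0020000008000d000000010030200000002082200000000412009840080000084308010000020b0100200000480020040008002d0000800100202000100020802000020004121000004,
  nat_lit 0x8004600002001004040000400206040000080040da0000011080002000006810000400004110000080000900000010000006008000600000c01004c400001802061c0000030040d86000007080000c0000601000018000401000003000093000,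
  nat_lit 0x2d00006000002020000c00008020000180001210000030d08004000003021000800008220200100001200040020000008000000d00001000003020000200008220000040001202000002d0800040000202100008000802020001000121004,
  nat_lit 0x81c0080200001180010040000402008000004c004010000001880400000800311a0000016004400002000c040000004001000080400800200011a00140000044020008000040004000001801881c0000030031180006006000400000c00c04c0,
  nat_lit 0x220180100000200030020000a04006000008440800c00000200020000180040210000032008a00004000408040000800080000020180010000210038000008a04001000008040800000200200220000040040200002002000a0000040040844,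
  nat_lit 0x8811000400000088002000000e00010040006180080200000808010001004006080008000030e20000010186000000080c00008011006000006088000020000e20010100006000080000800808810004004000080000030030e0000018018618,
  nat_lit 0x430800c000011060040000010000300200020c01001800004000300008080031000060000410100000300820400001010000000308020000031060000100010100302000020401000004004004300080080011000000400410000000800820c,
  nat_lit 0x2602008000006c11000400004190200080000d90010040006006600002000806410001000104090000200030db0000014000006602000c00006411000180004090200020000db0010006006002600000800806c10000100104190000030030d9].map (Big.spread (nat_lit 10) (nat_lit 3) (nat_lit 8))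

/-- their inverses -/
noncomputable def IA : List ℕ := LA.map fun a => eA.mul a a

theorem LA_inv : eA.invOK LA IA = true := by decide +kernel

variable {G G' : Type*} [Group G] [Group G'] {γ : ℕ → G}

instance instRfEv (γ : ℕ → G) (t : W) : Rf γ (t.ev γ) t := ⟨rfl⟩

section Eng

variable {E : Big.Eng} {R : G → ℕ → Prop} (hE : E.Laws R) {gs : List G} {L I : List ℕ} (v : Eng.Val R gs L I)
include hE v

omit hE v in
/-- equality of two words -/
noncomputable def eqE (E : Big.Eng) (L I : List ℕ) (s t : W) : Bool := Nat.beq (E.ev L I s false) (E.ev L I t false)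

theorem eq_of_eqE {s t : W} (e : eqE E L I s t = true) : s.ev (lets gs) = t.ev (lets gs) :=
  hE.uniq (v.ev hE s) (Nat.eq_of_beq_eq_true e ▸ v.ev hE t)

theorem ne_of_eqE (hc : E.Canon R) {s : W} (e : Nat.beq (E.mul (E.ev L I s false) E.one) (E.mul E.one E.one) = false) :
    s.ev (lets gs) ≠ 1 := fun h => hc.ne (hE.mul (v.ev hE s) hE.one) (hE.mul hE.one hE.one) e (by rw [h])

theorem car_of_eqE {n : ℕ} {labs : List W} {z : W} (h0 : lets gs 0 = 1) (e : band (band (eqE E L I (labW labs 0) (.l 0))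
    (eqE E L I (.mul z z) (.l 0))) (allP (List.range' 2 n) fun c => band (eqE E L I (.pow (labW labs c) 3) (.l 0))
      (allP (List.range' 2 n) fun d => bor (Nat.beq c d) (eqE E L I (.pow (.mul (labW labs c) (labW labs d)) 2) z))) = true) :
    CarN n (newLet (lets gs) labs) (z.ev (lets gs)) := by
  simp only [band_eq_true, allP_iff, bor_eq_true, beq_iff, List.mem_range'_1] at e
  exact ⟨(eq_of_eqE hE v e.1.1).trans h0, (eq_of_eqE hE v e.1.2).trans h0,
    fun c a b => (eq_of_eqE hE v (e.2 c ⟨b, by omega⟩).1).trans h0,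
    fun c a b d f g k => eq_of_eqE hE v (((e.2 c ⟨b, by omega⟩).2 d ⟨g, by omega⟩).resolve_left k)⟩

end Eng

/-- the letters of the model -/
noncomputable def gsA : List (GL (Fin 16) (ZMod 5)) := LA.map (valR (p16.R 5 16))

theorem lawA : eA.Laws (p16.R 5 16) := (FP.act ok16).toLaws

theorem valA : Eng.Val (p16.R 5 16) gsA LA IA := Eng.Val.of_invOK lawA (FP.exists_of_invOK ok16 LA_inv) LA_inv

/-- the first letters -/
def lab (n : ℕ) : List W := (List.range n).map .l

theorem carA : CarN 9 (newLet (lets gsA) (lab 11)) ((W.pow (.mul (.l 2) (.l 3)) 2).ev (lets gsA)) :=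
  car_of_eqE lawA valA (lawA.uniq (valA.get lawA 0) lawA.one) (by decide +kernel)

/-- equality of two words in `2.A₁₁` -/
noncomputable def eqA (s t : W) : Bool :=
  band ((W.mul s (.inv t)).overW (wN 9)) (eqE eA LA IA (s.subst (lab 11)) (t.subst (lab 11)))

theorem CarN.eq {δ : ℕ → G} {ζ : G} (h : CarN 9 δ ζ) {s t : W} (e : eqA s t = true) : s.ev δ = t.ev δ :=
  mul_inv_eq_one.1 (ev_eq_one_of_card_le (t := .mul s (.inv t)) ((h.prod carA).card (by decide)).1
    ((carA.card (by decide)).2 (ne_of_eqE lawA valA (FP.canon ok16) (by decide +kernel)))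
    (W.ev_mem_of_overW (h.prod carA).zero (fun _ => mem_genW _) (band_eq_true.1 e).1) (mul_inv_eq_one.2 (by
      rw [← W.ev_subst, ← W.ev_subst]; exact eq_of_eqE lawA valA (band_eq_true.1 e).2)))

/-- all the letters -/
def gam (δ : ℕ → G) (s : G) : ℕ → G := upd (newLet δ labY) 7 s

theorem CarN.eqH {δ : ℕ → G} {ζ : G} (h : CarN 9 δ ζ) {s x y : G} {a b : W} [i : Rf (gam δ s) x a] [j : Rf (gam δ s) y b]
    (e : band (avoid 7 (.mul a b)) (eqA (a.subst labY) (b.subst labY)) = true := by decide +kernel) : x = y := by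
  have f := Bool.and_eq_true_iff.1 (band_eq_true.1 e).1
  rw [← i.e, ← j.e, gam, ev_upd f.1, ev_upd f.2, ← W.ev_subst, ← W.ev_subst]
  exact h.eq (band_eq_true.1 e).2

/-- forget the letters from `n` on -/
def cut (n : ℕ) (γ : ℕ → G) (c : ℕ) : G := if c < n then γ c else 1

theorem cut_lt {n c : ℕ} (h : c < n) : cut n γ c = γ c := if_pos h

theorem ev_cut {n : ℕ} {t : W} (h : ltW n t = true) : t.ev (cut n γ) = t.ev γ := ev_congr (fun _ => cut_lt) h

theorem cut_succ (n : ℕ) : cut (n + 1) γ = upd (cut n γ) n (γ n) := funext fun c => by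
  by_cases h : c = n
  · rw [h, upd_self, cut_lt n.lt_succ_self]
  · rw [upd_of_ne _ _ h, cut, cut]; exact if_congr (by omega) rfl rfl

theorem cut_congr {n : ℕ} {γ' : ℕ → G} (h : ∀ c < n, γ c = γ' c) : cut n γ = cut n γ' := funext fun c => by
  rw [cut, cut]; split_ifs with e; exacts [h c e, rfl]

theorem cut_map (f : G →* G') (n : ℕ) (c : ℕ) : f (cut n γ c) = cut n (fun c => f (γ c)) c := by
  rw [cut, cut]; split_ifs; exacts [rfl, map_one f]

theorem quo_cut {γ' : ℕ → G'} {n : ℕ} (h : QuoW γ' (cut n γ)) {x y : G} {a b : W} [i : Rf γ x a] [j : Rf γ y b]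
    (l : ltW n (.mul a b) = true) (e : a.ev γ' = b.ev γ') : x = y := by
  have f := Bool.and_eq_true_iff.1 l
  rw [← i.e, ← j.e, ← ev_cut f.1, ← ev_cut f.2, h.ev_eq e]

end Cfsg.Lib.LyU
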