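import Cfsg.Agent.Lib.LyU.Pool0
import Cfsg.Agent.Lib.LyU.Pool1
import Cfsg.Agent.Lib.LyU.Pool2
import Cfsg.Agent.Lib.LyU.Pool3

/-!
# Data of the double coset enumeration (helper17, generated)
-/

set_option autoImplicit false
set_option maxRecDepth 1000000
set_option maxHeartbeats 0
set_option Elab.async false

namespace Cfsg.Lib.LyU

open Cfsg.Lib.Calc Cfsg.Lib.F2 Cfsg.Lib.Big

/-- data -/
noncomputable def dd_F_0 : Tr := .node (.node (.node (.node (.leaf (nat_lit 0x3))
  (.leaf (nat_lit 0x1876118500004011)))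
  (.leaf (nat_lit 0x2e4b800001004)))
  (.node (.node (.leaf (nat_lit 0x701b00001004))
  (.leaf (nat_lit 0x1f57d1f30000400d)))
  (.leaf (nat_lit 0x46d1a0000300c))))
  (.node (.node (.node (.leaf (nat_lit 0xd83500001004))
  (.leaf (nat_lit 0x5495100004010)))
  (.leaf (nat_lit 0x3acea00001004)))
  (.node (.node (.leaf (nat_lit 0x2489100001004))
  (.leaf (nat_lit 0x8be2e00001004)))
  (.leaf (nat_lit 0x53d4e00004010))))
/-- data -/
noncomputable def dd_F_1 : Tr := .node (.node (.node (.node (.leaf (nat_lit 0x150541500000005))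
  (.leaf (nat_lit 0x689a100004010)))
  (.leaf (nat_lit 0x360d700002008)))
  (.node (.node (.leaf (nat_lit 0x1ec7a00001004))
  (.leaf (nat_lit 0x2158521300004011)))
  (.leaf (nat_lit 0x1a86900001004))))
  (.node (.node (.node (.leaf (nat_lit 0x1485100001004))
  (.leaf (nat_lit 0x1d474dd200003011)))
  (.leaf (nat_lit 0x1c47200001004)))
  (.node (.leaf (nat_lit 0x294a500001004))
  (.leaf (nat_lit 0x5ad6a00001004))))
/-- data -/
noncomputable def dd_F_2 : Tr := .node (.node (.node (.node (.leaf (nat_lit 0x280900001004))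
  (.leaf (nat_lit 0x1936498e00004009)))
  (.leaf (nat_lit 0x328c900002008)))
  (.node (.node (.leaf (nat_lit 0x240a00001004))
  (.leaf (nat_lit 0x8120300004010)))
  (.leaf (nat_lit 0x4a5280000300c))))
  (.node (.node (.node (.leaf (nat_lit 0x1104300001004))
  (.leaf (nat_lit 0x5c97300004010)))
  (.leaf (nat_lit 0x3e0f700001004)))
  (.node (.node (.leaf (nat_lit 0x2789d00001004))
  (.leaf (nat_lit 0x2408f8000000400d)))
  (.leaf (nat_lit 0x15b5695900004009))))
/-- data -/
noncomputable def dd_F_3 : Tr := .node (.node (.node (.node (.leaf (nat_lit 0x982500001004))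
  (.leaf (nat_lit 0x6bdae00004010)))
  (.leaf (nat_lit 0x2008000002008)))
  (.node (.node (.leaf (nat_lit 0x2188500001004))
  (.leaf (nat_lit 0x22087e1e00004011)))
  (.leaf (nat_lit 0x5154400001004))))
  (.node (.node (.node (.leaf (nat_lit 0x1805f00001004))
  (.leaf (nat_lit 0x78de200001004)))
  (.leaf (nat_lit 0x4310b0000300c)))
  (.node (.leaf (nat_lit 0x280900001004))
  (.leaf (nat_lit 0x1785dd7600004011))))
/-- data -/
noncomputable def dd_F_4 : Tr := .node (.node (.node (.node (.leaf (nat_lit 0x100400000000))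
  (.leaf (nat_lit 0x62d8a00002008)))
  (.leaf (nat_lit 0x308c100001004)))
  (.node (.node (.leaf (nat_lit 0x1a86900001004))
  (.leaf (nat_lit 0x7f1fb00001004)))
  (.leaf (nat_lit 0x48d220000300c))))
  (.node (.node (.node (.leaf (nat_lit 0xf03b00001004))
  (.leaf (nat_lit 0x1c16f9bf00004009)))
  (.leaf (nat_lit 0x15054f100003005)))
  (.node (.node (.leaf (nat_lit 0x1c0800001004))
  (.leaf (nat_lit 0x8e23700002008)))
  (.leaf (nat_lit 0x150141500001011))))
/-- data -/
noncomputable def dd_F_5 : Tr := .node (.node (.node (.node (.leaf (nat_lit 0x781d00001004))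
  (.leaf (nat_lit 0x5415000004010)))
  (.leaf (nat_lit 0x32ccc00002008)))
  (.node (.node (.leaf (nat_lit 0x2088100001004))
  (.leaf (nat_lit 0x21985a1700004011)))
  (.leaf (nat_lit 0x13f4f93d0000300d))))
  (.node (.node (.node (.leaf (nat_lit 0x200700001004))
  (.leaf (nat_lit 0x76dda00001004)))
  (.leaf (nat_lit 0x105411030000200d)))
  (.node (.leaf (nat_lit 0x2acaa00001004))
  (.leaf (nat_lit 0x5cd7200004010))))
/-- data -/
noncomputable def dd_F_6 : Tr := .node (.node (.node (.node (.leaf (nat_lit 0x481100001004))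
  (.leaf (nat_lit 0x66d9a00004010)))
  (.leaf (nat_lit 0x340cf00002008)))
  (.node (.node (.leaf (nat_lit 0x1003f00001004))
  (.leaf (nat_lit 0x82d2500001004)))
  (.leaf (nat_lit 0x4c53000001004))))
  (.node (.node (.node (.leaf (nat_lit 0x1304b00001004))
  (.leaf (nat_lit 0x735cc0000300c)))
  (.leaf (nat_lit 0x3f0fb0000300c)))
  (.node (.leaf (nat_lit 0x288a100001004))
  (.leaf (nat_lit 0x163589610000400d))))
/-- data -/
noncomputable def dd_F_7 : Tr := .node (.node (.node (.node (.leaf (nat_lit 0xb82d00001004))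
  (.leaf (nat_lit 0x6d9b500004010)))
  (.leaf (nat_lit 0x38ca500002008)))
  (.node (.node (.leaf (nat_lit 0x2388d00001004))
  (.leaf (nat_lit 0x89a2500001004)))
  (.leaf (nat_lit 0x5294900001004))))
  (.node (.node (.node (.leaf (nat_lit 0x3c1000001004))
  (.leaf (nat_lit 0x1ec7adea0000400d)))
  (.leaf (nat_lit 0x385130000300c)))
  (.node (.leaf (nat_lit 0x2ccb200001004))
  (.leaf (nat_lit 0x5fd7e00001004))))
/-- data -/
noncomputable def dd_F_8 : Tr := .node (.node (.node (.node (.leaf (nat_lit 0x80200000000))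
  (.leaf (nat_lit 0x1dc7600001004)))
  (.leaf (nat_lit 0x2f8bd00001004)))
  (.node (.node (.leaf (nat_lit 0xc83100001004))
  (.leaf (nat_lit 0x7e1f700001004)))
  (.leaf (nat_lit 0x47d1e0000300c))))
  (.node (.node (.node (.leaf (nat_lit 0xe03700001004))
  (.leaf (nat_lit 0x6f5bc00001004)))
  (.leaf (nat_lit 0xf03bcee00002009)))
  (.node (.node (.leaf (nat_lit 0x2589500001004))
  (.leaf (nat_lit 0x2358d23300004011)))
  (.leaf (nat_lit 0x5394f00004010))))
/-- data -/
noncomputable def dd_F_9 : Tr := .node (.node (.node (.node (.leaf (nat_lit 0x681900001004))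
  (.leaf (nat_lit 0x699a500004010)))
  (.leaf (nat_lit 0x36cdb00002008)))
  (.node (.node (.leaf (nat_lit 0x1fc7e00001004))
  (.leaf (nat_lit 0x4c53000001004)))
  (.leaf (nat_lit 0x4e93900001004))))
  (.node (.node (.node (.leaf (nat_lit 0x1585500001004))
  (.leaf (nat_lit 0x75dd600001004)))
  (.leaf (nat_lit 0x400ff00001004)))
  (.node (.leaf (nat_lit 0x240a00001004))
  (.leaf (nat_lit 0x1705bd6e00004011))))
/-- data -/
noncomputable def dd_F_10 : Tr := .node (.node (.node (.node (.leaf (nat_lit 0x380d00001004))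
  (.leaf (nat_lit 0x65d9600004010)))
  (.leaf (nat_lit 0x330cb00002008)))
  (.node (.node (.leaf (nat_lit 0x1d07300001004))
  (.leaf (nat_lit 0x209822070000200d)))
  (.leaf (nat_lit 0x4b52c00001004))))
  (.node (.node (.node (.leaf (nat_lit 0x1204700001004))
  (.leaf (nat_lit 0x1ca725c800003011)))
  (.leaf (nat_lit 0x3e8f90000300c)))
  (.node (.leaf (nat_lit 0x1846200001004))
  (.leaf (nat_lit 0x5795d00001004))))
/-- data -/
noncomputable def dd_F_11 : Tr := .node (.node (.node (.node (.leaf (nat_lit 0xa82900001004))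
  (.leaf (nat_lit 0x6c9b100004010)))
  (.leaf (nat_lit 0x388e100002008)))
  (.node (.node (.leaf (nat_lit 0x2288900001004))
  (.leaf (nat_lit 0x1c87100001004)))
  (.leaf (nat_lit 0x1485200500004005))))
  (.node (.node (.node (.leaf (nat_lit 0x1906300001004))
  (.leaf (nat_lit 0x1e7791e50000400d)))
  (.leaf (nat_lit 0x4410f0000300c)))
  (.node (.leaf (nat_lit 0x2c4b000002008))
  (.leaf (nat_lit 0x5ed7a00001004))))
/-- data -/
noncomputable def dd_F_12 : Tr := .node (.node (.node (.node (.leaf (nat_lit 0x180600000000))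
  (.leaf (nat_lit 0x19063d8e00004009)))
  (.leaf (nat_lit 0xc6314ba00002005)))
  (.node (.node (.leaf (nat_lit 0x1b86d00001004))
  (.leaf (nat_lit 0x2007f5fe0000200d)))
  (.leaf (nat_lit 0x495240000300c))))
  (.node (.node (.node (.leaf (nat_lit 0x1003f00001004))
  (.leaf (nat_lit 0x715c400001004)))
  (.leaf (nat_lit 0xf63d4f100003005)))
  (.node (.node (.leaf (nat_lit 0x9c26c1600001005))
  (.leaf (nat_lit 0x23d8f23b00004011)))
  (.leaf (nat_lit 0x5595500001004))))
/-- data -/
noncomputable def dd_F_13 : Tr := .node (.node (.node (.node (.leaf (nat_lit 0x882100001004))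
  (.leaf (nat_lit 0x6b1ab00004010)))
  (.leaf (nat_lit 0x378dd00002008)))
  (.node (.node (.leaf (nat_lit 0x200700001004))
  (.leaf (nat_lit 0x21c86e1a00004011)))
  (.leaf (nat_lit 0x5054000001004))))
  (.node (.node (.node (.leaf (nat_lit 0x1705b00001004))
  (.leaf (nat_lit 0x1df771dd0000300d)))
  (.leaf (nat_lit 0x10841d0400003009)))
  (.node (.leaf (nat_lit 0x2b4ac00002008))
  (.leaf (nat_lit 0x5455200004010))))
/-- data -/
noncomputable def dd_F_14 : Tr := .node (.node (.node (.node (.leaf (nat_lit 0x54150000000a))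
  (.leaf (nat_lit 0x6799d00004010)))
  (.leaf (nat_lit 0x350d300002008)))
  (.node (.node (.leaf (nat_lit 0x1dc7600001004))
  (.leaf (nat_lit 0x2118420f00004011)))
  (.leaf (nat_lit 0x1364d5340000300d))))
  (.node (.node (.node (.leaf (nat_lit 0x1384d00001004))
  (.leaf (nat_lit 0x5455200004010)))
  (.leaf (nat_lit 0x3f8fd00002008)))
  (.node (.leaf (nat_lit 0xa428c0100002005))
  (.leaf (nat_lit 0x599650000300c))))
/-- data -/
noncomputable def dd_F_15 : Tr := .node (.node (.node (.node (.leaf (nat_lit 0xc83100001004))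
  (.leaf (nat_lit 0x6e5b900004010)))
  (.leaf (nat_lit 0x39ce600001004)))
  (.node (.node (.leaf (nat_lit 0x280900001004))
  (.leaf (nat_lit 0x22c8ae2a00004011)))
  (.leaf (nat_lit 0x14d5340500004005))))
  (.node (.node (.node (.leaf (nat_lit 0x681900001004))
  (.leaf (nat_lit 0x1f07bdee0000300d)))
  (.leaf (nat_lit 0x45d160000300c)))
  (.node (.leaf (nat_lit 0x240a00001004))
  (.leaf (nat_lit 0x1836018100004011))))
/-- data -/
noncomputable def dd_F_16 : Tr := .node (.node (.node (.node (.leaf (nat_lit 0x40100000000))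
  (.leaf (nat_lit 0x1d47500001004)))
  (.leaf (nat_lit 0xbc2ecba00002005)))
  (.node (.node (.leaf (nat_lit 0x1a06700001004))
  (.leaf (nat_lit 0x1f67cdf400003011)))
  (.leaf (nat_lit 0x4751c0000300c))))
  (.node (.node (.node (.leaf (nat_lit 0x240a00001004))
  (.leaf (nat_lit 0x1bb6398f00002011)))
  (.leaf (nat_lit 0x3b4ec00001004)))
  (.node (.node (.leaf (nat_lit 0x2509300001004))
  (.leaf (nat_lit 0x2328c63000004011)))
  (.leaf (nat_lit 0x5415000004010))))
/-- data -/
noncomputable def dd_F_17 : Tr := .node (.node (.node (.node (.leaf (nat_lit 0x601700001004))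
  (.leaf (nat_lit 0x691a300004010)))
  (.leaf (nat_lit 0x368d900002008)))
  (.node (.node (.leaf (nat_lit 0x1f47c00001004))
  (.leaf (nat_lit 0xa02700001004)))
  (.leaf (nat_lit 0x4e13700001004))))
  (.node (.node (.node (.leaf (nat_lit 0x1505300001004))
  (.leaf (nat_lit 0x1d5749d30000400d)))
  (.leaf (nat_lit 0x1d87700001004)))
  (.node (.leaf (nat_lit 0x29ca600001004))
  (.leaf (nat_lit 0x5b56c00001004))))
/-- data -/
noncomputable def dd_F_18 : Tr := .node (.node (.node (.node (.leaf (nat_lit 0x300b00001004))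
  (.leaf (nat_lit 0x6559400004010)))
  (.leaf (nat_lit 0x2008000002008)))
  (.node (.node (.leaf (nat_lit 0x1c87100001004))
  (.leaf (nat_lit 0x81a0500001004)))
  (.leaf (nat_lit 0x4ad2a00001004))))
  (.node (.node (.node (.leaf (nat_lit 0x1184500001004))
  (.leaf (nat_lit 0x71dc600001004)))
  (.leaf (nat_lit 0xfa3e4f100003005)))
  (.node (.leaf (nat_lit 0x380d00001004))
  (.leaf (nat_lit 0x15c5655a00002011))))
/-- data -/
noncomputable def dd_F_19 : Tr := .node (.node (.node (.node (.leaf (nat_lit 0xa02700001004))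
  (.leaf (nat_lit 0x6c1b000004010)))
  (.leaf (nat_lit 0x37ce000002008)))
  (.node (.node (.leaf (nat_lit 0x2208700001004))
  (.leaf (nat_lit 0x22187a1f00004011)))
  (.leaf (nat_lit 0x51d4600001004))))
  (.node (.node (.node (.leaf (nat_lit 0x1886100001004))
  (.leaf (nat_lit 0x1e6795e400003011)))
  (.leaf (nat_lit 0x4390d0000300c)))
  (.node (.leaf (nat_lit 0xb12c00100002005))
  (.leaf (nat_lit 0x1795d97700004011))))
/-- data -/
noncomputable def dd_F_20 : Tr := .node (.node (.node (.node (.leaf (nat_lit 0x140500000000))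
  (.leaf (nat_lit 0x6358c00001004)))
  (.leaf (nat_lit 0x310c300001004)))
  (.node (.node (.leaf (nat_lit 0x1b06b00001004))
  (.leaf (nat_lit 0x1ff7f9fd00003009)))
  (.leaf (nat_lit 0x200800000300c))))
  (.node (.node (.node (.leaf (nat_lit 0xf83d00001004))
  (.leaf (nat_lit 0x70dc20000300c)))
  (.leaf (nat_lit 0x3d0f300001004)))
  (.node (.node (.leaf (nat_lit 0x2689900001004))
  (.leaf (nat_lit 0x8ea3900001004)))
  (.leaf (nat_lit 0x5515300001004))))
/-- data -/
noncomputable def dd_F_21 : Tr := .node (.node (.node (.node (.leaf (nat_lit 0x801f00001004))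
  (.leaf (nat_lit 0x6a9a900004010)))
  (.leaf (nat_lit 0x370dc00002008)))
  (.node (.node (.leaf (nat_lit 0x2108300001004))
  (.leaf (nat_lit 0x5ad6a00001004)))
  (.leaf (nat_lit 0x150540500004005))))
  (.node (.node (.node (.leaf (nat_lit 0x1685900001004))
  (.leaf (nat_lit 0x1de775dc0000300d)))
  (.leaf (nat_lit 0x10640d0400003009)))
  (.node (.leaf (nat_lit 0xad2b00100002005))
  (.leaf (nat_lit 0x5c97300004010))))
/-- data -/
noncomputable def dd_F_22 : Tr := .node (.node (.node (.node (.leaf (nat_lit 0x501300001004))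
  (.leaf (nat_lit 0x6719c00004010)))
  (.leaf (nat_lit 0x348d100002008)))
  (.node (.node (.leaf (nat_lit 0x1d47500001004))
  (.leaf (nat_lit 0x20e8360c00004011)))
  (.leaf (nat_lit 0x4cd3200001004))))
  (.node (.node (.node (.leaf (nat_lit 0x200700001004))
  (.leaf (nat_lit 0x73dce00004010)))
  (.leaf (nat_lit 0x153c4150000100d)))
  (.node (.leaf (nat_lit 0x2348e00001004))
  (.leaf (nat_lit 0x1645856200003011))))
/-- data -/
noncomputable def dd_F_23 : Tr := .node (.node (.node (.node (.leaf (nat_lit 0xc02f00001004))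
  (.leaf (nat_lit 0x6e1b700004010)))
  (.leaf (nat_lit 0x394e400001004)))
  (.node (.node (.leaf (nat_lit 0x2408f00001004))
  (.leaf (nat_lit 0x2298a22700004011)))
  (.leaf (nat_lit 0x5314b00001004))))
  (.node (.node (.node (.leaf (nat_lit 0x601700001004))
  (.leaf (nat_lit 0x1ed7a9eb00003011)))
  (.leaf (nat_lit 0x455140000300c)))
  (.node (.leaf (nat_lit 0x2d4b400001004))
  (.leaf (nat_lit 0x1826058000004011))))
/-- data -/
noncomputable def dd_F_24 : Tr := .node (.node (.node (.node (.leaf (nat_lit 0xc0300000000))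
  (.leaf (nat_lit 0x6258800001004)))
  (.leaf (nat_lit 0x300bf00001004)))
  (.node (.node (.leaf (nat_lit 0xd03300001004))
  (.leaf (nat_lit 0x7e9f900001004)))
  (.leaf (nat_lit 0x485200000300c))))
  (.node (.node (.node (.leaf (nat_lit 0xe83900001004))
  (.leaf (nat_lit 0x1c06fdbe00002011)))
  (.leaf (nat_lit 0x3c8f100000000)))
  (.node (.node (.leaf (nat_lit 0x2609700001004))
  (.leaf (nat_lit 0x2368ce3400004011)))
  (.leaf (nat_lit 0x5495100004010))))
/-- data -/
noncomputable def dd_F_25 : Tr := .node (.node (.node (.node (.leaf (nat_lit 0x701b00001004))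
  (.leaf (nat_lit 0x6a1a700004010)))
  (.leaf (nat_lit 0x2008000002008)))
  (.node (.node (.leaf (nat_lit 0x2008000001004))
  (.leaf (nat_lit 0x21885e1600004011)))
  (.leaf (nat_lit 0x4f13b00001004))))
  (.node (.node (.node (.leaf (nat_lit 0x1605700001004))
  (.leaf (nat_lit 0x765d800001004)))
  (.leaf (nat_lit 0x4090100001004)))
  (.node (.leaf (nat_lit 0x2a4a800001004))
  (.leaf (nat_lit 0x1715b96f00004011))))
/-- data -/
noncomputable def dd_F_26 : Tr := .node (.node (.node (.node (.leaf (nat_lit 0x400f00001004))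
  (.leaf (nat_lit 0x6659800004010)))
  (.leaf (nat_lit 0x338cd00002008)))
  (.node (.node (.leaf (nat_lit 0x280900001004))
  (.leaf (nat_lit 0x20a81e0800003009)))
  (.leaf (nat_lit 0x4bd2e00001004))))
  (.node (.node (.node (.leaf (nat_lit 0x1284900001004))
  (.leaf (nat_lit 0x1cb721c90000400d)))
  (.leaf (nat_lit 0xfc3ecf100003005)))
  (.node (.leaf (nat_lit 0x2809f00001004))
  (.leaf (nat_lit 0x5815f00001004))))
/-- data -/
noncomputable def dd_F_27 : Tr := .node (.node (.node (.node (.leaf (nat_lit 0xb02b00001004))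
  (.leaf (nat_lit 0x6d1b300004010)))
  (.leaf (nat_lit 0x384e200002008)))
  (.node (.node (.leaf (nat_lit 0x2308b00001004))
  (.leaf (nat_lit 0x22488e2200004011)))
  (.leaf (nat_lit 0x5214800004010))))
  (.node (.node (.node (.leaf (nat_lit 0x1986500001004))
  (.leaf (nat_lit 0x7a5e800001004)))
  (.leaf (nat_lit 0x449110000300c)))
  (.node (.leaf (nat_lit 0x150041500001009))
  (.leaf (nat_lit 0x5f57c00001004))))
/-- data -/
noncomputable def dd_F_28 : Tr := .node (.node (.node (.node (.leaf (nat_lit 0x200700001004))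
  (.leaf (nat_lit 0x6459100002008)))
  (.leaf (nat_lit 0x320c700002008)))
  (.node (.node (.leaf (nat_lit 0x1c06f00001004))
  (.leaf (nat_lit 0x80a0100001004)))
  (.leaf (nat_lit 0x49d260000300c))))
  (.node (.node (.node (.leaf (nat_lit 0x1084100001004))
  (.leaf (nat_lit 0x5cd7200004010)))
  (.leaf (nat_lit 0x3d8f50000300c)))
  (.node (.node (.leaf (nat_lit 0x150540100002005))
  (.leaf (nat_lit 0x23f0023e00003011)))
  (.leaf (nat_lit 0x5615700001004))))
/-- data -/
noncomputable def dd_F_29 : Tr := .node (.node (.node (.node (.leaf (nat_lit 0x902300001004))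
  (.leaf (nat_lit 0x6b5ad00004010)))
  (.leaf (nat_lit 0x380df00002008)))
  (.node (.node (.leaf (nat_lit 0x280900001004))
  (.leaf (nat_lit 0x21d86a1b00004011)))
  (.leaf (nat_lit 0x50d4200001004))))
  (.node (.node (.node (.leaf (nat_lit 0x1785d00001004))
  (.leaf (nat_lit 0x785e000004010)))
  (.leaf (nat_lit 0x429090000300c)))
  (.node (.leaf (nat_lit 0x2bcae00001004))
  (.leaf (nat_lit 0x5d57400001004))))
/-- data -/
noncomputable def dd_F_30 : Tr := .node (.node (.node (.node (.leaf (nat_lit 0x16058160000000e))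
  (.leaf (nat_lit 0x6819f00004010)))
  (.leaf (nat_lit 0x358d500002008)))
  (.node (.node (.leaf (nat_lit 0x1e47800001004))
  (.leaf (nat_lit 0x21283e1000004011)))
  (.leaf (nat_lit 0x1906300001004))))
  (.node (.node (.node (.leaf (nat_lit 0x1404f00001004))
  (.leaf (nat_lit 0x745d000001004)))
  (.leaf (nat_lit 0x441200001004)))
  (.node (.leaf (nat_lit 0x290a300002008))
  (.leaf (nat_lit 0x1695a16700004011))))
/-- data -/
noncomputable def dd_F_31 : Tr := .node (.node (.node (.node (.leaf (nat_lit 0xd03300001004))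
  (.leaf (nat_lit 0x6e9ba00004010)))
  (.leaf (nat_lit 0x3a4e800001004)))
  (.node (.node (.leaf (nat_lit 0x1344e00001004))
  (.leaf (nat_lit 0x22d8aa2b00004011)))
  (.leaf (nat_lit 0x5354d00004010))))
  (.node (.node (.node (.leaf (nat_lit 0xb82d00001004))
  (.leaf (nat_lit 0x7c9f10000300c)))
  (.leaf (nat_lit 0x465180000300c)))
  (.node (.leaf (nat_lit 0x2dcb600001004))
  (.leaf (nat_lit 0x1866158400004011))))
/-- data -/
noncomputable def dd_F : Tr := .node (.node (.node (.node (.node dd_F_0
  dd_F_1)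
  (.node dd_F_2
  dd_F_3))
  (.node (.node dd_F_4
  dd_F_5)
  (.node dd_F_6
  dd_F_7)))
  (.node (.node (.node dd_F_8
  dd_F_9)
  (.node dd_F_10
  dd_F_11))
  (.node (.node dd_F_12
  dd_F_13)
  (.node dd_F_14
  dd_F_15))))
  (.node (.node (.node (.node dd_F_16
  dd_F_17)
  (.node dd_F_18
  dd_F_19))
  (.node (.node dd_F_20
  dd_F_21)
  (.node dd_F_22
  dd_F_23)))
  (.node (.node (.node dd_F_24
  dd_F_25)
  (.node dd_F_26
  dd_F_27))
  (.node (.node dd_F_28
  dd_F_29)
  (.node dd_F_30
  dd_F_31))))
/-- data -/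
noncomputable def dd_J_0 : Tr := .node (.node (.node (.node (.leaf (nat_lit 0x0))
  (.leaf (nat_lit 0xff00000000000000000000000000e02)))
  (.leaf (nat_lit 0x1c8c8000100)))
  (.node (.node (.leaf (nat_lit 0x1f034000100))
  (.leaf (nat_lit 0x85418be04c761aed7d3f9f00064fc17b44000000000013d00000000000000000000000000f12)))
  (.leaf (nat_lit 0x5e00000005e2f4000300))))
  (.node (.node (.node (.leaf (nat_lit 0xf828000100))
  (.leaf (nat_lit 0x8f80000008f474000400)))
  (.leaf (nat_lit 0x2e18c000100)))
  (.node (.node (.leaf (nat_lit 0x2f948000100))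
  (.leaf (nat_lit 0xf834000100)))
  (.leaf (nat_lit 0x6db7c000400))))
/-- data -/
noncomputable def dd_J_1 : Tr := .node (.node (.node (.node (.leaf (nat_lit 0x0))
  (.leaf (nat_lit 0x87c24000400)))
  (.leaf (nat_lit 0x47a28000200)))
  (.node (.node (.leaf (nat_lit 0x27800000026034000100))
  (.leaf (nat_lit 0x68851a875420000000010fa700068d214b74000000000010000000000000000000000000000f02)))
  (.leaf (nat_lit 0x67834000100))))
  (.node (.node (.node (.leaf (nat_lit 0x15000000017860000100))
  (.leaf (nat_lit 0xfc32198be5e00000025d2d80000fc808184c0000634b14eec00000000000000000000000000f02)))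
  (.leaf (nat_lit 0x57834000100)))
  (.node (.leaf (nat_lit 0x4834000100))
  (.leaf (nat_lit 0x2102c000100))))
/-- data -/
noncomputable def dd_J_2 : Tr := .node (.node (.node (.node (.leaf (nat_lit 0x0))
  (.leaf (nat_lit 0xda2c143ac00004e41d230600000000000000000000000000003)))
  (.leaf (nat_lit 0x439e8000200)))
  (.node (.node (.leaf (nat_lit 0x2380000002381c000100))
  (.leaf (nat_lit 0x86c24000400)))
  (.leaf (nat_lit 0x5fb00000300))))
  (.node (.node (.node (.leaf (nat_lit 0x13800000012830000100))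
  (.leaf (nat_lit 0x93c80000400)))
  (.leaf (nat_lit 0x170c0000100)))
  (.node (.node (.leaf (nat_lit 0x4828000100))
  (.leaf (nat_lit 0x16700000000000000000000000000e02)))
  (.leaf (nat_lit 0xfc80738a160642e158d29e33800683817b9800000000000e400000000000000000000000000f0a))))
/-- data -/
noncomputable def dd_J_3 : Tr := .node (.node (.node (.node (.leaf (nat_lit 0xb800000009834000100))
  (.leaf (nat_lit 0x8bc24000400)))
  (.leaf (nat_lit 0x4b80000004ba4c000200)))
  (.node (.node (.leaf (nat_lit 0x2980000001e114000100))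
  (.leaf (nat_lit 0x6d1a8a9e20062cb17ab9988d064351509800009047e393900000000000000000000000000f0a)))
  (.leaf (nat_lit 0x6b824000100))))
  (.node (.node (.node (.leaf (nat_lit 0x1b8c0000100))
  (.leaf (nat_lit 0x11834000100)))
  (.leaf (nat_lit 0x53ab0000300)))
  (.node (.leaf (nat_lit 0x32190000100))
  (.leaf (nat_lit 0x3465061ee000026d2c76740006832178640000003d9c2e900000000000000000000000000f0a))))
/-- data -/
noncomputable def dd_J_4 : Tr := .node (.node (.node (.node (.leaf (nat_lit 0x0))
  (.leaf (nat_lit 0x439bc000200)))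
  (.leaf (nat_lit 0x418c4000100)))
  (.node (.node (.leaf (nat_lit 0x1d034000100))
  (.leaf (nat_lit 0x99024000100)))
  (.leaf (nat_lit 0x610000000612ec000300))))
  (.node (.node (.node (.leaf (nat_lit 0x11828000100))
  (.leaf (nat_lit 0x12300000000000000000000000000e02)))
  (.leaf (nat_lit 0xa301)))
  (.node (.node (.leaf (nat_lit 0x31800000031978000100))
  (.leaf (nat_lit 0x461e8000200)))
  (.leaf (nat_lit 0xd500000000000000000000000000e02))))
/-- data -/
noncomputable def dd_J_5 : Tr := .node (.node (.node (.node (.leaf (nat_lit 0x4824000100))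
  (.leaf (nat_lit 0x89800000087424000400)))
  (.leaf (nat_lit 0x49000000049228000200)))
  (.node (.node (.leaf (nat_lit 0x29940000100))
  (.leaf (nat_lit 0x15300000000000000000000000000e02)))
  (.leaf (nat_lit 0x851a8bc460031954a83a520d0dad314b4400000000000ad00000000000000000000000000f02))))
  (.node (.node (.node (.leaf (nat_lit 0x198000000198b4000100))
  (.leaf (nat_lit 0xa824000100)))
  (.leaf (nat_lit 0x3f2003200322cca84d521f8647432ac55c984ba41187b00000000000000000000000000f0a)))
  (.node (.leaf (nat_lit 0x158b0000100))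
  (.leaf (nat_lit 0x71b8c000400))))
/-- data -/
noncomputable def dd_J_6 : Tr := .node (.node (.node (.node (.leaf (nat_lit 0x0))
  (.leaf (nat_lit 0x85c24000400)))
  (.leaf (nat_lit 0x43a1c000200)))
  (.node (.node (.leaf (nat_lit 0x21824000100))
  (.leaf (nat_lit 0x11034000100)))
  (.leaf (nat_lit 0xc82c000100))))
  (.node (.node (.node (.leaf (nat_lit 0x148a0000100))
  (.leaf (nat_lit 0x5dafc000300)))
  (.leaf (nat_lit 0x156a404)))
  (.node (.leaf (nat_lit 0x198b8000100))
  (.leaf (nat_lit 0xfc321b0a1d600001714a7152000007e7504c00000000000e400000000000000000000000000f12))))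
/-- data -/
noncomputable def dd_J_7 : Tr := .node (.node (.node (.node (.leaf (nat_lit 0x902c000100))
  (.leaf (nat_lit 0x8dc24000400)))
  (.leaf (nat_lit 0x4d00000004da64000200)))
  (.node (.node (.leaf (nat_lit 0x2d80000002d160000100))
  (.leaf (nat_lit 0x9a034000100)))
  (.leaf (nat_lit 0x35830000100))))
  (.node (.node (.node (.leaf (nat_lit 0x1d00000001d830000100))
  (.leaf (nat_lit 0x6839360a676000000229129800101260e85c00000000000f300000000000000000000000000f02)))
  (.leaf (nat_lit 0x5c00000005c2a8000300)))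
  (.node (.leaf (nat_lit 0xc834000100))
  (.leaf (nat_lit 0x180b8000100))))
/-- data -/
noncomputable def dd_J_8 : Tr := .node (.node (.node (.node (.leaf (nat_lit 0x0))
  (.leaf (nat_lit 0x80830000100)))
  (.leaf (nat_lit 0xb024000100)))
  (.node (.node (.leaf (nat_lit 0x6024000100))
  (.leaf (nat_lit 0xf028000100)))
  (.leaf (nat_lit 0x60afc000300))))
  (.node (.node (.node (.leaf (nat_lit 0xa024000100))
  (.leaf (nat_lit 0x11830000100)))
  (.leaf (nat_lit 0x80360bd42645027ca69e339f8646c0c034000000000007b00000000000000000000000000f0a)))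
  (.node (.node (.leaf (nat_lit 0x30964000100))
  (.leaf (nat_lit 0xfc6d930602200004ba3d0aae8d100333286400000000000ff00000000000000000000000000f02)))
  (.leaf (nat_lit 0x6fb6c000400))))
/-- data -/
noncomputable def dd_J_9 : Tr := .node (.node (.node (.node (.leaf (nat_lit 0x8824000100))
  (.leaf (nat_lit 0x88b7c000400)))
  (.leaf (nat_lit 0x48a2c000200)))
  (.node (.node (.leaf (nat_lit 0x28000000028904000100))
  (.leaf (nat_lit 0xa882c000100)))
  (.leaf (nat_lit 0x418c0000100))))
  (.node (.node (.node (.leaf (nat_lit 0x160000000160c0000100))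
  (.leaf (nat_lit 0x67830000100)))
  (.leaf (nat_lit 0x29164000100)))
  (.node (.leaf (nat_lit 0x2b158000100))
  (.leaf (nat_lit 0xfc85540a9e2783ba7d4af06a80064301482400000000000e400000000000000000000000000f12))))
/-- data -/
noncomputable def dd_J_10 : Tr := .node (.node (.node (.node (.leaf (nat_lit 0x0))
  (.leaf (nat_lit 0x84b6c000400)))
  (.leaf (nat_lit 0x378000000379e8000200)))
  (.node (.node (.leaf (nat_lit 0x24824000100))
  (.leaf (nat_lit 0x188a692000049e3f489c800647417d1c000000000012400000000000000000000000000f12)))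
  (.leaf (nat_lit 0x180ac000100))))
  (.node (.node (.node (.leaf (nat_lit 0xe8a0000100))
  (.leaf (nat_lit 0x68323a0a65200004a2290c7f8d0db2614404000092b1984ec00000000000000000000000000f02)))
  (.leaf (nat_lit 0x152a404)))
  (.node (.leaf (nat_lit 0x2e170000100))
  (.leaf (nat_lit 0x188c0000100))))
/-- data -/
noncomputable def dd_J_11 : Tr := .node (.node (.node (.node (.leaf (nat_lit 0xc830000100))
  (.leaf (nat_lit 0x8837c000400)))
  (.leaf (nat_lit 0x4b80000004aa58000200)))
  (.node (.node (.leaf (nat_lit 0x2a954000100))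
  (.leaf (nat_lit 0x8834000100)))
  (.leaf (nat_lit 0xd1002c0c364f0633014db0d500000000000000000000000000003))))
  (.node (.node (.node (.leaf (nat_lit 0x602c000100))
  (.leaf (nat_lit 0x13900000000000000000000000000e02)))
  (.leaf (nat_lit 0x53adc000300)))
  (.node (.leaf (nat_lit 0xf26704))
  (.leaf (nat_lit 0xa828000100))))
/-- data -/
noncomputable def dd_J_12 : Tr := .node (.node (.node (.node (.leaf (nat_lit 0x0))
  (.leaf (nat_lit 0x34418a60a00572692d04510d10035153740000003d9c2e900000000000000000000000000f12)))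
  (.leaf (nat_lit 0x10a8414a08c85c2b1a4d06700000000000000000000000000003)))
  (.node (.node (.leaf (nat_lit 0x6828000100))
  (.leaf (nat_lit 0x14500000000000000000000000000e02)))
  (.leaf (nat_lit 0x62b0c000300))))
  (.node (.node (.node (.leaf (nat_lit 0xf824000100))
  (.leaf (nat_lit 0x418ac000100)))
  (.leaf (nat_lit 0x401cc0063312949aa400000000000000000000000000003)))
  (.node (.node (.leaf (nat_lit 0xd0723032824000000000001000000000000000000000000000f0a))
  (.leaf (nat_lit 0x368d6ca004da5d256483000fc741489800000047a2b2300000000000000000000000000f0a)))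
  (.leaf (nat_lit 0x72824000100))))
/-- data -/
noncomputable def dd_J_13 : Tr := .node (.node (.node (.node (.leaf (nat_lit 0xa82c000100))
  (.leaf (nat_lit 0x8ac24000400)))
  (.leaf (nat_lit 0x4780000004922c000200)))
  (.node (.node (.leaf (nat_lit 0x1e00000001e120000100))
  (.leaf (nat_lit 0x391b8bcfa00572620e927400072fc0ed540000004b61d2300000000000000000000000000f02)))
  (.leaf (nat_lit 0x4830000100))))
  (.node (.node (.node (.leaf (nat_lit 0x1a8c0000100))
  (.leaf (nat_lit 0x13500000000000000000000000000e02)))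
  (.leaf (nat_lit 0x83141f4009c4d25524b500000000000000000000000000003)))
  (.node (.leaf (nat_lit 0xea6704))
  (.leaf (nat_lit 0x7ab8c000400))))
/-- data -/
noncomputable def dd_J_14 : Tr := .node (.node (.node (.node (.leaf (nat_lit 0x0))
  (.leaf (nat_lit 0x86b6c000400)))
  (.leaf (nat_lit 0x4421c000200)))
  (.node (.node (.leaf (nat_lit 0x26830000100))
  (.leaf (nat_lit 0x68323a0a94200004825b0c7f9f864d3153dc000094476354d00000000000000000000000000f02)))
  (.leaf (nat_lit 0x6832181959a0000000ac715200100cb0eb2400006332174ad00000000000000000000000000f02))))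
  (.node (.node (.node (.leaf (nat_lit 0xc00000000e874000100))
  (.leaf (nat_lit 0x94480000400)))
  (.leaf (nat_lit 0x4e270000200)))
  (.node (.leaf (nat_lit 0xda6c179ac0064351a4d06700000000000000000000000000003))
  (.leaf (nat_lit 0x5f2f4000300))))
/-- data -/
noncomputable def dd_J_15 : Tr := .node (.node (.node (.node (.leaf (nat_lit 0x6024000100))
  (.leaf (nat_lit 0x8a474000400)))
  (.leaf (nat_lit 0x4e830000100)))
  (.node (.node (.leaf (nat_lit 0x2e80000002e95c000100))
  (.leaf (nat_lit 0xfc3936196b800004823b1aab80064740c3c4000093c52270000000000000000000000000000f0a)))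
  (.leaf (nat_lit 0x683717b74c8772a94c98d500000000000000000000000000003))))
  (.node (.node (.node (.leaf (nat_lit 0x1e824000100))
  (.leaf (nat_lit 0x683936195a000004a23f37981f90a3017868000000000013a00000000000000000000000000f0a)))
  (.leaf (nat_lit 0x5eaec000300)))
  (.node (.leaf (nat_lit 0x1a0d0000100))
  (.leaf (nat_lit 0xfd00000000000000000000000000e02))))
/-- data -/
noncomputable def dd_J_16 : Tr := .node (.node (.node (.node (.leaf (nat_lit 0x0))
  (.leaf (nat_lit 0x6824000100)))
  (.leaf (nat_lit 0x401fcfa0000000004733000fc32149f4000000000007b00000000000000000000000000f02)))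
  (.node (.node (.leaf (nat_lit 0x2000000001f830000100))
  (.leaf (nat_lit 0x14000000000000000000000000000e02)))
  (.leaf (nat_lit 0x5faec000300))))
  (.node (.node (.node (.leaf (nat_lit 0x1000000001001c000100))
  (.leaf (nat_lit 0x10600000000000000000000000000e02)))
  (.leaf (nat_lit 0x13028000100)))
  (.node (.node (.leaf (nat_lit 0x2a958000100))
  (.leaf (nat_lit 0x807506198000049e3f487f9f872d317d800000944b6235600000000000000000000000000f0a)))
  (.leaf (nat_lit 0x7036c000400))))
/-- data -/
noncomputable def dd_J_17 : Tr := .node (.node (.node (.node (.leaf (nat_lit 0x6034000100))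
  (.leaf (nat_lit 0x8836c000400)))
  (.leaf (nat_lit 0x4822c000200)))
  (.node (.node (.leaf (nat_lit 0x1e140000100))
  (.leaf (nat_lit 0x6028000100)))
  (.leaf (nat_lit 0x68024000100))))
  (.node (.node (.node (.leaf (nat_lit 0x14000000014860000100))
  (.leaf (nat_lit 0x13000000000000000000000000000e02)))
  (.leaf (nat_lit 0x58024000100)))
  (.node (.leaf (nat_lit 0x38024000100))
  (.leaf (nat_lit 0x5802c000100))))
/-- data -/
noncomputable def dd_J_18 : Tr := .node (.node (.node (.node (.leaf (nat_lit 0x0))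
  (.leaf (nat_lit 0x2110604)))
  (.leaf (nat_lit 0x438000000441e8000200)))
  (.node (.node (.leaf (nat_lit 0x1e834000100))
  (.leaf (nat_lit 0x9a030000100)))
  (.leaf (nat_lit 0xf82c000100))))
  (.node (.node (.node (.leaf (nat_lit 0xc0a0000100))
  (.leaf (nat_lit 0x68028000100)))
  (.leaf (nat_lit 0x64a80c0340000001c88ca400000000000000000000000000003)))
  (.node (.leaf (nat_lit 0x298f0000100))
  (.leaf (nat_lit 0xe800000000000000000000000000e02))))
/-- data -/
noncomputable def dd_J_19 : Tr := .node (.node (.node (.node (.leaf (nat_lit 0x6028000100))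
  (.leaf (nat_lit 0x8c36c000400)))
  (.leaf (nat_lit 0x4aa28000200)))
  (.node (.node (.leaf (nat_lit 0x28000000028914000100))
  (.leaf (nat_lit 0x15800000000000000000000000000e02)))
  (.leaf (nat_lit 0x57824000100))))
  (.node (.node (.node (.leaf (nat_lit 0x1c00000001b0c4000100))
  (.leaf (nat_lit 0x6d690767000004823f37798d100ea32bac00c360af94eec00000000000000000000000000f02)))
  (.leaf (nat_lit 0x5c2dc000300)))
  (.node (.leaf (nat_lit 0x683215034f0772b1a4e06700000000000000000000000000003))
  (.leaf (nat_lit 0xf800000000000000000000000000e02))))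
/-- data -/
noncomputable def dd_J_20 : Tr := .node (.node (.node (.node (.leaf (nat_lit 0x0))
  (.leaf (nat_lit 0x39830000100)))
  (.leaf (nat_lit 0x190e4000100)))
  (.node (.node (.leaf (nat_lit 0x22000000021830000100))
  (.leaf (nat_lit 0xfc323a0a2880000000010c918d0da7f1550c000062bb9733c00000000000000000000000000f12)))
  (.leaf (nat_lit 0x61b0c000300))))
  (.node (.node (.node (.leaf (nat_lit 0x12024000100))
  (.leaf (nat_lit 0x63b1c000300)))
  (.leaf (nat_lit 0x280f0000100)))
  (.node (.node (.leaf (nat_lit 0xc074000100))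
  (.leaf (nat_lit 0x6e02c000100)))
  (.leaf (nat_lit 0x6e030000100))))
/-- data -/
noncomputable def dd_J_21 : Tr := .node (.node (.node (.node (.leaf (nat_lit 0xa030000100))
  (.leaf (nat_lit 0x87b6c000400)))
  (.leaf (nat_lit 0x48800000048a28000200)))
  (.node (.node (.leaf (nat_lit 0x2a140000100))
  (.leaf (nat_lit 0xf02c000100)))
  (.leaf (nat_lit 0x501))))
  (.node (.node (.node (.leaf (nat_lit 0x160ac000100))
  (.leaf (nat_lit 0x32738be6800000024f0e981f8653317cc8000000000012b00000000000000000000000000f0a)))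
  (.leaf (nat_lit 0xb400000000000000000000000000e02)))
  (.node (.leaf (nat_lit 0x68740c1cc00633914ce26700000000000000000000000000003))
  (.leaf (nat_lit 0x7a38c000400))))
/-- data -/
noncomputable def dd_J_22 : Tr := .node (.node (.node (.node (.leaf (nat_lit 0x0))
  (.leaf (nat_lit 0x8637c000400)))
  (.leaf (nat_lit 0x461bc000200)))
  (.node (.node (.leaf (nat_lit 0x6824000100))
  (.leaf (nat_lit 0xfc39418aa84004c2591e8c7400000a815530000000000012100000000000000000000000000f02)))
  (.leaf (nat_lit 0x66034000100))))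
  (.node (.node (.node (.leaf (nat_lit 0xe80000000e884000100))
  (.leaf (nat_lit 0x8ec74000400)))
  (.leaf (nat_lit 0xa400000000000000000000000000e02)))
  (.node (.leaf (nat_lit 0x1c8e4000100))
  (.leaf (nat_lit 0xec00000000000000000000000000e02))))
/-- data -/
noncomputable def dd_J_23 : Tr := .node (.node (.node (.node (.leaf (nat_lit 0xe00000000d824000100))
  (.leaf (nat_lit 0x8e00000008cb7c000400)))
  (.leaf (nat_lit 0x34030000100)))
  (.node (.node (.leaf (nat_lit 0x2d964000100))
  (.leaf (nat_lit 0x686d180bd62000049e3f17790d100830ed70000000000014f00000000000000000000000000f0a)))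
  (.leaf (nat_lit 0x6e024000100))))
  (.node (.node (.node (.leaf (nat_lit 0x6034000100))
  (.leaf (nat_lit 0x13c00000000000000000000000000e02)))
  (.leaf (nat_lit 0x5c80000005ca9c000300)))
  (.node (.leaf (nat_lit 0x3e028000100))
  (.leaf (nat_lit 0x193f15e0000000783a6a9f90afc143ec00000000000e400000000000000000000000000f0a))))
/-- data -/
noncomputable def dd_J_24 : Tr := .node (.node (.node (.node (.leaf (nat_lit 0x0))
  (.leaf (nat_lit 0x198c4000100)))
  (.leaf (nat_lit 0x158b8000100)))
  (.node (.node (.leaf (nat_lit 0x21024000100))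
  (.leaf (nat_lit 0xa1024000100)))
  (.leaf (nat_lit 0x61000000060b00000300))))
  (.node (.node (.node (.leaf (nat_lit 0x11030000100))
  (.leaf (nat_lit 0x6d818a43c0000000011479800006d32c895c9b4aa411d0600000000000000000000000000f0a)))
  (.leaf (nat_lit 0x1004000000)))
  (.node (.node (.leaf (nat_lit 0x31000000030154000100))
  (.leaf (nat_lit 0x16200000000000000000000000000e02)))
  (.leaf (nat_lit 0x71000000070b7c000400))))
/-- data -/
noncomputable def dd_J_25 : Tr := .node (.node (.node (.node (.leaf (nat_lit 0x9034000100))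
  (.leaf (nat_lit 0x8936c000400)))
  (.leaf (nat_lit 0x49000000049224000200)))
  (.node (.node (.leaf (nat_lit 0x1e0f0000100))
  (.leaf (nat_lit 0x6832198744e00322cca9526a80000807509800000000000e400000000000000000000000000f02)))
  (.leaf (nat_lit 0x690b8000100))))
  (.node (.node (.node (.leaf (nat_lit 0x158c0000100))
  (.leaf (nat_lit 0x158c4000100)))
  (.leaf (nat_lit 0x59154000100)))
  (.node (.leaf (nat_lit 0x11024000100))
  (.leaf (nat_lit 0xf200000000000000000000000000e02))))
/-- data -/
noncomputable def dd_J_26 : Tr := .node (.node (.node (.node (.leaf (nat_lit 0x0))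
  (.leaf (nat_lit 0x8537c000400)))
  (.leaf (nat_lit 0x3b1e8000200)))
  (.node (.node (.leaf (nat_lit 0x25000000025020000100))
  (.leaf (nat_lit 0x14a00000000000000000000000000e02)))
  (.leaf (nat_lit 0x650c4000100))))
  (.node (.node (.node (.leaf (nat_lit 0x15000000014874000100))
  (.leaf (nat_lit 0x12a00000000000000000000000000e02)))
  (.leaf (nat_lit 0x323f8a40000351c878a400000000000000000000000000003)))
  (.node (.leaf (nat_lit 0xa028000100))
  (.leaf (nat_lit 0x8828000100))))
/-- data -/
noncomputable def dd_J_27 : Tr := .node (.node (.node (.node (.leaf (nat_lit 0xd034000100))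
  (.leaf (nat_lit 0x8d36c000400)))
  (.leaf (nat_lit 0x4c268000200)))
  (.node (.node (.leaf (nat_lit 0x29154000100))
  (.leaf (nat_lit 0xfc6d7e0bd992562b05dcba9e000dad214d68000000000013d00000000000000000000000000f0a)))
  (.leaf (nat_lit 0x1b4d504))))
  (.node (.node (.node (.leaf (nat_lit 0x1d028000100))
  (.leaf (nat_lit 0x82830000100)))
  (.leaf (nat_lit 0x5d00000005caa8000300)))
  (.node (.leaf (nat_lit 0x6700000000000000000000000000e02))
  (.leaf (nat_lit 0x7d02c000100))))
/-- data -/
noncomputable def dd_J_28 : Tr := .node (.node (.node (.node (.leaf (nat_lit 0x0))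
  (.leaf (nat_lit 0x4a228000200)))
  (.leaf (nat_lit 0x10c8104)))
  (.node (.node (.leaf (nat_lit 0x23024000100))
  (.leaf (nat_lit 0x10024000100)))
  (.leaf (nat_lit 0x63000000062b10000300))))
  (.node (.node (.node (.leaf (nat_lit 0x13024000100))
  (.leaf (nat_lit 0x90480000400)))
  (.leaf (nat_lit 0x14ca404)))
  (.node (.node (.leaf (nat_lit 0x101))
  (.leaf (nat_lit 0x6839818a9b80000482290c7c0d1002c149cc000000000013c00000000000000000000000000f02)))
  (.leaf (nat_lit 0x170b0000100))))
/-- data -/
noncomputable def dd_J_29 : Tr := .node (.node (.node (.node (.leaf (nat_lit 0xb028000100))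
  (.leaf (nat_lit 0x8b37c000400)))
  (.leaf (nat_lit 0x4a254000200)))
  (.node (.node (.leaf (nat_lit 0x1e00000001e12c000100))
  (.leaf (nat_lit 0x15600000000000000000000000000e02)))
  (.leaf (nat_lit 0x6b034000100))))
  (.node (.node (.node (.leaf (nat_lit 0x170ac000100))
  (.leaf (nat_lit 0x89424000400)))
  (.leaf (nat_lit 0x16cb504)))
  (.node (.leaf (nat_lit 0x31970000100))
  (.leaf (nat_lit 0x6e028000100))))
/-- data -/
noncomputable def dd_J_30 : Tr := .node (.node (.node (.node (.leaf (nat_lit 0x0))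
  (.leaf (nat_lit 0x84b7c000400)))
  (.leaf (nat_lit 0x470000000469bc000200)))
  (.node (.node (.leaf (nat_lit 0x2702c000100))
  (.leaf (nat_lit 0x14e00000000000000000000000000e02)))
  (.leaf (nat_lit 0x602c000100))))
  (.node (.node (.node (.leaf (nat_lit 0x14074000100))
  (.leaf (nat_lit 0x6e82c000100)))
  (.leaf (nat_lit 0x6030000100)))
  (.node (.leaf (nat_lit 0xdc6704))
  (.leaf (nat_lit 0x3942194d60061b01dcb9761f900830c06800000000000ed00000000000000000000000000f02))))
/-- data -/
noncomputable def dd_J_31 : Tr := .node (.node (.node (.node (.leaf (nat_lit 0xf024000100))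
  (.leaf (nat_lit 0x8ec50000400)))
  (.leaf (nat_lit 0x2f958000100)))
  (.node (.node (.leaf (nat_lit 0x2a964000100))
  (.leaf (nat_lit 0x15e00000000000000000000000000e02)))
  (.leaf (nat_lit 0x1bcd504))))
  (.node (.node (.node (.leaf (nat_lit 0x1f02c000100))
  (.leaf (nat_lit 0x5d29c000300)))
  (.leaf (nat_lit 0x5f00000005f2f0000300)))
  (.node (.leaf (nat_lit 0x188ac000100))
  (.leaf (nat_lit 0xfc85160603c000026d2c8f740d10a7f1788800000000000e900000000000000000000000000f0a))))
/-- data -/
noncomputable def dd_J : Tr := .node (.node (.node (.node (.node dd_J_0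
  dd_J_1)
  (.node dd_J_2
  dd_J_3))
  (.node (.node dd_J_4
  dd_J_5)
  (.node dd_J_6
  dd_J_7)))
  (.node (.node (.node dd_J_8
  dd_J_9)
  (.node dd_J_10
  dd_J_11))
  (.node (.node dd_J_12
  dd_J_13)
  (.node dd_J_14
  dd_J_15))))
  (.node (.node (.node (.node dd_J_16
  dd_J_17)
  (.node dd_J_18
  dd_J_19))
  (.node (.node dd_J_20
  dd_J_21)
  (.node dd_J_22
  dd_J_23)))
  (.node (.node (.node dd_J_24
  dd_J_25)
  (.node dd_J_26
  dd_J_27))
  (.node (.node dd_J_28
  dd_J_29)
  (.node dd_J_30
  dd_J_31))))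
/-- the codes -/
noncomputable def pool : Tr := .node (.node pool0 pool2) (.node pool1 pool3)

/-- code number `k` of a short fact -/
noncomputable def pc (f k : ℕ) : ℕ := dec (pool.get (get (nat_lit 10) (Nat.shiftRight f (nat_lit 32)) k))

/-- a fact with its codes -/
noncomputable def unp (f : ℕ) : ℕ := jn (nat_lit 32) (Nat.land f (msk (nat_lit 32))) (jn (nat_lit 107720) (pc f (nat_lit 0))
  (jn (nat_lit 107720) (pc f (nat_lit 1)) (cnd (Nat.beq (Nat.land f (nat_lit 3)) (nat_lit 0)) (nat_lit 0) (pc f (nat_lit 2)))))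

/-- letters -/
noncomputable def dd_L : List (List ℕ) := [[], [eX.one], [dec (pool.get (nat_lit 1)), dec (pool.get (nat_lit 21))], [dec (pool.get (nat_lit 241)), dec (pool.get (nat_lit 21))], [dec (pool.get (nat_lit 5)), dec (pool.get (nat_lit 21))]]
/-- the enumeration -/
noncomputable def dd : Big.DC := ⟨nat_lit 107720, (nat_lit 9), (nat_lit 5), fun q => forceN (Tr.get dd_F q) unp, Tr.get dd_J, fun i => dd_L.getD i []⟩

end Cfsg.Lib.LyU
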